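import Groth.Agent.AssPts.Scheme
import Groth.Agent.AssPts.Structure
import Groth.Agent.FpqcDescent.IdealComap
import Groth.Prelude.Def_BlowUp2
import Groth.Prelude.Def_CurvBase

/-! Weakly associated points of affine direct images; pullback of effective Cartier divisors. -/

set_option autoImplicit false
set_option backward.isDefEq.respectTransparency false
set_option backward.isDefEq.respectTransparency.types false

noncomputable section

universe u

open CategoryTheory AlgebraicGeometry Opposite TopologicalSpace Groth.Agent.QCohBase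

namespace Groth.Agent.AssPtsPull

theorem exists_comap_eq {A B : Type u} [CommRing A] [CommRing B] [Algebra A B]
    {M : Type u} [AddCommGroup M] [Module A M] [Module B M] [IsScalarTower A B M] {p : Ideal A}
    (hp : p ∈ FlatCA.weakAss A M) : ∃ q ∈ FlatCA.weakAss B M, q.comap (algebraMap A B) = p := by
  obtain ⟨m, hm⟩ := hp
  have hpp := hm.1.1
  have hann : (Submodule.span A {m}).annihilator =
      (Submodule.span B {m}).annihilator.comap (algebraMap A B) := by
    ext a
    rw [Ideal.mem_comap, Submodule.mem_annihilator_span_singleton,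
      Submodule.mem_annihilator_span_singleton, algebraMap_smul]
  rw [hann] at hm
  obtain ⟨q, hq, hle⟩ := Ideal.exists_minimalPrimes_comap_eq (algebraMap A B) p hm
  exact ⟨q, ⟨m, hq⟩, hle⟩

variable {X S : Scheme.{u}}

theorem exists_weakAssPoint_of_push (f : X ⟶ S) [IsAffineHom f] (M : X.Modules) [M.IsQuasicoherent]
    {y : S} (hy : Curv2.IsWeakAssPoint ((Scheme.Modules.pushforward f).obj M) y) :
    ∃ x : X, f x = y ∧ Curv2.IsWeakAssPoint M x := by
  have := isQuasicoherent_pushforward M f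
  obtain ⟨V, hV, hyV, -⟩ :=
    Opens.isBasis_iff_nbhd.1 S.isBasis_affineOpens (U := ⊤) (Opens.mem_top y)
  let U := f ⁻¹ᵁ V
  have hU : IsAffineOpen U := hV.preimage f
  rw [AssPts.isWeakAssPoint_iff _ hV y hyV] at hy
  letI := (f.app V).hom.toAlgebra
  letI : Module Γ(S, V) Γ(M, U) := Module.compHom _ (f.app V).hom
  have : IsScalarTower Γ(S, V) Γ(X, U) Γ(M, U) :=
    IsScalarTower.of_algebraMap_smul fun r x => rfl
  change (hV.primeIdealOf ⟨y, hyV⟩).asIdeal ∈ FlatCA.weakAss Γ(S, V) Γ(M, U) at hy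
  obtain ⟨q, hq, hqy⟩ := exists_comap_eq (B := Γ(X, U)) hy
  have : q.IsPrime := (WeakAss.mem_weakAss_iff.1 hq).1
  obtain ⟨x, hx, rfl⟩ := AssPts.exists_point hU q
  refine ⟨x, ?_, (AssPts.isWeakAssPoint_iff M hU x hx).2 hq⟩
  have hmap : (hV.primeIdealOf ⟨f x, hx⟩).asIdeal =
      (hU.primeIdealOf ⟨x, hx⟩).asIdeal.comap (algebraMap Γ(S, V) Γ(X, U)) := by
    rw [AssPts.primeIdealOf_map f hU hV le_rfl x hx]
    change _ = Ideal.comap (f.app V).hom _
    simp only [Scheme.Hom.app_eq_appLE]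
    rfl
  rw [← hmap] at hqy
  have := congrArg hV.fromSpec (PrimeSpectrum.ext hqy)
  rwa [hV.fromSpec_primeIdealOf, hV.fromSpec_primeIdealOf] at this

theorem isEffCartier_comap {Y : Scheme.{u}} (f : X ⟶ Y) (J : Y.IdealSheafData)
    (hD : BlowUp.IsEffCartierIdeal J)
    (h : ∀ x : X, Curv2.IsWeakAssPoint (Coh.structureModule X) x → f x ∉ J.support) :
    BlowUp.IsEffCartierIdeal (J.comap f) := by
  intro x
  obtain ⟨U, hxU, g, -, hg⟩ := hD (f x)
  obtain ⟨V, hV, hxV, hVU⟩ := Opens.isBasis_iff_nbhd.1 X.isBasis_affineOpens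
    (show x ∈ f ⁻¹ᵁ U.1 from hxU)
  refine ⟨⟨V, hV⟩, hxV, (f.appLE U.1 V hVU).hom g, ?_, ?_⟩
  · rw [mem_nonZeroDivisors_iff_right]
    intro b hb
    by_contra hb0
    obtain ⟨q, hq, hgq⟩ := WeakAss.exists_mem_weakAss_of_smul_eq_zero (R := Γ(X, V))
      (M := Γ(Coh.structureModule X, V)) (r := (f.appLE U.1 V hVU).hom g) (x := b) hb0
      ((mul_comm _ _).trans hb)
    have : (Coh.structureModule X).IsQuasicoherent := AssPts.isQuasicoherent_structureModule X
    have : q.IsPrime := (WeakAss.mem_weakAss_iff.1 hq).1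
    obtain ⟨z, hz, rfl⟩ := AssPts.exists_point hV q
    refine h z ((AssPts.isWeakAssPoint_iff _ hV z hz).2 hq) ?_
    rw [Scheme.IdealSheafData.mem_support_iff_of_mem (U := U) (hVU hz), Scheme.zeroLocus_def]
    simp only [Set.mem_iInter, Set.mem_compl_iff, SetLike.mem_coe]
    intro t ht hzt
    replace hzt : f z ∈ Y.basicOpen t := hzt
    rw [QCohBase.mem_basicOpen_iff_notMem_prime U.2 (f z) (hVU hz) t,
      AssPts.primeIdealOf_map f hV U.2 hVU z hz] at hzt
    rw [hg, Ideal.mem_span_singleton] at ht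
    obtain ⟨c, rfl⟩ := ht
    apply hzt
    rw [Ideal.mem_comap, map_mul]
    exact Ideal.mul_mem_right _ _ hgq
  · rw [FpqcDescent.ideal_comap J f U ⟨V, hV⟩ hVU, hg, Ideal.map_span, Set.image_singleton]

/-- On a reduced scheme, weakly associated points of the structure sheaf have no generizations. -/
theorem eq_of_specializes [IsReduced X] {x : X}
    (hx : Curv2.IsWeakAssPoint (Coh.structureModule X) x) {y : X} (hy : y ⤳ x) : y = x := by
  have : (Coh.structureModule X).IsQuasicoherent := AssPts.isQuasicoherent_structureModule X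
  obtain ⟨U, hU, hxU, -⟩ :=
    Opens.isBasis_iff_nbhd.1 X.isBasis_affineOpens (U := ⊤) (Opens.mem_top x)
  have hyU : y ∈ U := hy.mem_open U.2 hxU
  obtain ⟨hp, a, hann, hpow⟩ :=
    WeakAss.mem_weakAss_iff.1 ((AssPts.isWeakAssPoint_iff _ hU x hxU).1 hx)
  let p := (hU.primeIdealOf ⟨x, hxU⟩).asIdeal
  let q := (hU.primeIdealOf ⟨y, hyU⟩).asIdeal
  have hqp : q ≤ p := by
    have hs : hU.primeIdealOf ⟨y, hyU⟩ ⤳ hU.primeIdealOf ⟨x, hxU⟩ := by
      rw [← hU.fromSpec.isOpenEmbedding.isInducing.specializes_iff, hU.fromSpec_primeIdealOf,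
        hU.fromSpec_primeIdealOf]
      exact hy
    exact (PrimeSpectrum.le_iff_specializes _ _).2 hs
  have hpq : p ≤ q := by
    intro c hc
    by_contra hcq
    obtain ⟨s, hs, n, hn⟩ := hpow c hc
    let A : Γ(X, U) := a
    change (s * c ^ n) * A = 0 at hn
    have hsq : s ∉ q := fun h => hs (hqp h)
    have hAq : A ∈ q := by
      have h0 : (s * c ^ n) * A ∈ q := hn ▸ q.zero_mem
      refine ((hU.primeIdealOf ⟨y, hyU⟩).isPrime.mem_or_mem h0).resolve_left fun h' => ?_
      rcases (hU.primeIdealOf ⟨y, hyU⟩).isPrime.mem_or_mem h' with h'' | h''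
      · exact hsq h''
      · exact hcq ((hU.primeIdealOf ⟨y, hyU⟩).isPrime.mem_of_pow_mem n h'')
    have hAp : A ∈ p := hqp hAq
    obtain ⟨t, ht, m, hm⟩ := hpow A hAp
    change (t * A ^ m) * A = 0 at hm
    have hnil : (t * A) ^ (m + 1) = 0 := by
      rw [mul_pow, pow_succ, mul_assoc, pow_succ]
      rw [show t * (A ^ m * A) = t * A ^ m * A from (mul_assoc _ _ _).symm, hm, mul_zero]
    have : _root_.IsReduced Γ(X, U) := inferInstance
    have h0 : t * A = 0 := IsReduced.eq_zero _ ⟨_, hnil⟩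
    exact ht (hann t h0)
  have := congrArg hU.fromSpec (PrimeSpectrum.ext (le_antisymm hqp hpq))
  rwa [hU.fromSpec_primeIdealOf, hU.fromSpec_primeIdealOf] at this

end Groth.Agent.AssPtsPull
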